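import Cfsg.Agent.Lib.RecL.A
import Cfsg.Agent.Lib.LT2B.Main
import Cfsg.Agent.Lib.LT0.Main

/-! Recognition of `L₃(4)` from its order, class number and centraliser orders. -/

set_option autoImplicit false

namespace Cfsg.Agent.RecL

open Subgroup Cfsg.Agent.Bd Cfsg.Agent.AIC Cfsg.Agent.LT Cfsg.Agent.LT2B

/-- the field with four elements -/
inductive K4 | o | i | w | v
  deriving DecidableEq

namespace K4

instance : Fintype K4 := ⟨{o, i, w, v}, fun x => by cases x <;> simp⟩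
instance : Zero K4 := ⟨o⟩
instance : One K4 := ⟨i⟩
instance : Add K4 := ⟨fun a b => match a, b with
  | o, b => b | a, o => a | i, i => o | w, w => o | v, v => o
  | i, w => v | w, i => v | i, v => w | v, i => w | w, v => i | v, w => i⟩
instance : Mul K4 := ⟨fun a b => match a, b with
  | o, _ => o | _, o => o | i, b => b | a, i => a | w, w => v | v, v => w | w, v => i | v, w => i⟩
instance : Neg K4 := ⟨fun a => a⟩
instance : Inv K4 := ⟨fun a => match a with | o => o | i => i | w => v | v => w⟩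

instance instField : Field K4 := Field.ofMinimalAxioms K4 (by decide) (by decide) (by decide) (by decide)
  (by decide) (by decide) (by decide) (by decide) (by decide) ⟨o, i, by decide⟩

theorem card : Fintype.card K4 = 4 := rfl

instance : CharP K4 2 := CharTwo.of_one_ne_zero_of_two_eq_zero (by decide) (by rw [← one_add_one_eq_two]; rfl)

theorem cube : ∀ a : K4, a ≠ 0 → a ^ 3 = 1 := by
  intro a ha
  have := FiniteField.pow_card_sub_one_eq_one a ha
  rwa [card] at this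

end K4

variable {G : Type*} [Group G]

/-- the four-group on `x`, `y` -/
def par (x y : G) : K4 → G
  | .o => 1
  | .i => x
  | .w => y
  | .v => x * y

theorem par_add {x y : G} (hx : x * x = 1) (hy : y * y = 1) (c : Commute x y) (s r : K4) :
    par x y (s + r) = par x y s * par x y r := by
  have h1 : ∀ g, x * (x * g) = g := fun g => by rw [← mul_assoc, hx, one_mul]
  have h2 : ∀ g, y * (x * g) = x * (y * g) := fun g => by rw [← mul_assoc, ← c.eq, mul_assoc]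
  cases s <;> cases r <;> change par x y _ = _ <;> simp only [par, one_mul, mul_one, mul_assoc, ← c.eq, h1, h2, hx, hy]

theorem par_mem {K : Subgroup G} {x y : G} (hx : x ∈ K) (hy : y ∈ K) (s : K4) : par x y s ∈ K := by
  cases s
  exacts [one_mem _, hx, hy, mul_mem hx hy]

theorem cm_left {x x' y c c' : G} (h : x * y * x⁻¹ * y⁻¹ = c) (h' : x' * y * x'⁻¹ * y⁻¹ = c') (k : Commute x c') :
    x * x' * y * (x * x')⁻¹ * y⁻¹ = c' * c := by
  calc _ = x * (x' * y * x'⁻¹ * y⁻¹) * x⁻¹ * (x * y * x⁻¹ * y⁻¹) := by group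
    _ = _ := by rw [h, h', conj_eq_of_commute k]

theorem cm_right {x y y' c c' : G} (h : x * y * x⁻¹ * y⁻¹ = c) (h' : x * y' * x⁻¹ * y'⁻¹ = c') (k : Commute y c') :
    x * (y * y') * x⁻¹ * (y * y')⁻¹ = c * c' := by
  calc _ = (x * y * x⁻¹ * y⁻¹) * (y * (x * y' * x⁻¹ * y'⁻¹) * y⁻¹) := by group
    _ = _ := by rw [h, h', conj_eq_of_commute k]

namespace Hyp

variable [Finite G] (h : Hyp G) {t g : G} (ht : IsInv t) (g3 : orderOf g = 3)
  (hg : ∀ x, x ∈ C t ↔ g * x * g⁻¹ ∈ C t)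
include h ht g3 hg

omit [Finite G] in
theorem norm {x : G} (hx : x ∈ C t) : x * (g * x * g⁻¹) * (g * (g * x * g⁻¹) * g⁻¹) = 1 := by
  have g1 : g * g * g = 1 := by rw [← pow_three', ← g3, pow_orderOf_eq_one]
  have e : x * (g * x * g⁻¹) * (g * (g * x * g⁻¹) * g⁻¹) = (x * g) ^ 3 := by
    calc _ = (x * g) ^ 3 * (g * g * g)⁻¹ := by simp only [pow_succ, pow_zero, one_mul]; group
      _ = _ := by rw [g1, inv_one, mul_one]
  have m : (x * g) ^ 3 ∈ C t := e ▸ mul_mem (mul_mem hx ((hg x).1 hx)) ((hg _).1 ((hg x).1 hx))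
  have h4 : ¬ (x * g) ^ 4 = 1 := fun e4 => by
    have : x * g ∈ C t := by
      rw [pow_succ] at e4
      rw [eq_inv_of_mul_eq_one_right e4]; exact inv_mem m
    exact ht.1 (h.nofix ht (mem_C.2 (Commute.refl t)) Nat.prime_three (by norm_num) g3
      (mem_C.1 ((Subgroup.mul_mem_cancel_left _ hx).1 this)))
  have h12 : orderOf (x * g) ∣ 12 := orderOf_dvd_of_pow_eq_one (by
    rw [← h.four ht m, ← pow_add, ← pow_add])
  rw [e, ← orderOf_dvd_iff_pow_eq_one]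
  rw [← orderOf_dvd_iff_pow_eq_one] at h4
  rcases h.cases (x := x * g) (fun e => h4 (by simp [e])) with e | e | e | e | e <;> rw [e.1] at h4 h12 ⊢ <;> omega

omit [Finite G] in
theorem comm_sig {x : G} (hx : x ∈ C t) : Commute x (g * x * g⁻¹) := by
  have h1 := eq_inv_of_mul_eq_one_right (h.norm ht g3 hg hx)
  have h2 := h.norm ht g3 hg (inv_mem hx)
  have h3 : g * (g * x⁻¹ * g⁻¹) * g⁻¹ = x * (g * x * g⁻¹) := by
    rw [← inv_inv (x * _), ← h1]; simp only [mul_inv_rev, inv_inv, mul_assoc]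
  rw [h3] at h2
  calc x * (g * x * g⁻¹) = g * x * g⁻¹ * x * (x⁻¹ * (g * x⁻¹ * g⁻¹) * (x * (g * x * g⁻¹))) := by group
    _ = _ := by rw [h2, mul_one]

omit [Finite G] h ht g3 in
theorem sig_Z {z : G} : g * z * g⁻¹ ∈ ZZ t ↔ z ∈ ZZ t := by
  rw [mem_ZZ, mem_ZZ]
  refine ⟨fun e s hs => mem_C.2 ((commute_conj_iff g _ _).1 (mem_C.1 (e ((hg s).1 hs)))), fun e s hs => ?_⟩
  have := (commute_conj_iff g _ _).2 (mem_C.1 (e ((hg (g⁻¹ * s * g)).2 (by simpa [mul_assoc] using hs))))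
  rw [show g * (g⁻¹ * s * g) * g⁻¹ = s by group] at this
  exact mem_C.2 this

omit [Finite G] in
theorem sig2 {x : G} (hx : x ∈ C t) (x2 : x * x = 1) : g * (g * x * g⁻¹) * g⁻¹ = x * (g * x * g⁻¹) := by
  rw [eq_inv_of_mul_eq_one_right (h.norm ht g3 hg hx), mul_inv_rev, (h.comm_sig ht g3 hg hx).eq]
  simp only [mul_inv_rev, inv_inv, inv_eq_of_mul_eq_one_right x2, mul_assoc]

theorem sq_mem {x : G} (hx : x ∈ C t) : x * x ∈ ZZ t := by
  by_contra hZ
  obtain ⟨y, hy⟩ : ∃ y, y = x * x := ⟨_, rfl⟩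
  rw [← hy] at hZ
  have yS : y ∈ C t := hy ▸ mul_mem hx hx
  have y2 : y * y = 1 := hy ▸ h.four ht hx
  have y2' : g * y * g⁻¹ * (g * y * g⁻¹) = 1 := by rw [conj_mul, y2]; group
  have x2 : x * x ≠ 1 := fun e => hZ (hy ▸ e ▸ one_mem _)
  have hc : Nat.card (C x) = 16 := by
    rcases h.ord_C ht hx (by rintro rfl; simp at x2) with e | e
    · exact absurd (inv_of_ord e.1).2 x2
    · exact e.2
  have pa := par_add y2 y2' (h.comm_sig ht g3 hg yS)
  have pm : ∀ s, par y (g * y * g⁻¹) s ∈ C x := par_mem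
    (mem_C.2 (hy ▸ (Commute.refl x).mul_left (Commute.refl x)))
    (mem_C.2 (by
      rw [hy, ← conj_mul]
      exact ((h.comm_sig ht g3 hg hx).mul_right (h.comm_sig ht g3 hg hx)).symm))
  have pS : ∀ s, par y (g * y * g⁻¹) s ∈ C t := par_mem yS ((hg y).1 yS)
  have psq : ∀ s, par y (g * y * g⁻¹) s * par y (g * y * g⁻¹) s = 1 := fun s => by
    rw [← pa, CharTwo.add_self_eq_zero]; rfl
  have pZ : ∀ s, par y (g * y * g⁻¹) s ∈ ZZ t → s = 0 := fun s hs => by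
    cases s
    · rfl
    · exact absurd hs hZ
    · exact absurd ((sig_Z hg).1 hs) hZ
    · change y * (g * y * g⁻¹) ∈ _ at hs
      rw [← h.sig2 ht g3 hg yS y2] at hs
      exact absurd ((sig_Z hg).1 ((sig_Z hg).1 hs)) hZ
  have ne : ∀ s (z : ZZ t), par y (g * y * g⁻¹) s * z ≠ x := fun s z e => x2 (by
    rw [← e, (ZZ_comm z.2 (pS s)).symm.mul_mul_mul_comm, psq, h.Z_sq ht z.2, one_mul])
  have := Nat.card_le_card_of_injective (fun p : Option (K4 × ZZ t) => (p.elim ⟨x, mem_C.2 (Commute.refl x)⟩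
    fun p => ⟨par y (g * y * g⁻¹) p.1 * p.2, mul_mem (pm _) (mem_C.2 (ZZ_comm p.2.2 hx).symm)⟩ : C x)) (by
      rintro (_ | ⟨s, z⟩) (_ | ⟨r, z'⟩) e
      · rfl
      · exact absurd (Subtype.mk.inj e).symm (ne _ _)
      · exact absurd (Subtype.mk.inj e) (ne _ _)
      · have e1 : par y (g * y * g⁻¹) s * z = par y (g * y * g⁻¹) r * z' := Subtype.mk.inj e
        have e2 : par y (g * y * g⁻¹) (r + s) = z' * (z : G)⁻¹ := by
          rw [pa, eq_mul_inv_iff_mul_eq, mul_assoc, e1, ← mul_assoc, psq, one_mul]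
        obtain rfl := add_eq_zero2.1 (pZ _ (e2 ▸ mul_mem z'.2 (inv_mem z.2)))
        rw [Subtype.ext (mul_left_cancel e1)])
  rw [hc, Finite.card_option, Nat.card_prod, h.card_Z ht, Nat.card_eq_fintype_card, K4.card] at this
  omega

theorem exists_ab : ∃ a ∈ C t, ∃ b ∈ C t, a * a = 1 ∧ b * b = 1 ∧ ¬ Commute a b := by
  have h1 := h.card_sq ht
  have h2 : {x | x ∈ C t ∧ x * x = 1}.ncard = 28 := by
    have e : {x | x ∈ C t ∧ x * x = 1} = (C t : Set G) \ {x | x ∈ C t ∧ x * x ∈ ZZ t ∧ x * x ≠ 1} := by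
      ext x
      simp only [Set.mem_ofPred_eq, Set.mem_sdiff, SetLike.mem_coe]
      exact ⟨fun e => ⟨e.1, fun e' => e'.2.2 e.2⟩,
        fun e => ⟨e.1, by_contra fun e' => e.2 ⟨e.1, h.sq_mem ht g3 hg e.1, e'⟩⟩⟩
    rw [e, Set.ncard_sdiff (fun _ hx => hx.1) (Set.toFinite _), h1, ncard_sub, h.card_C ht, h.card_Z ht]
  obtain ⟨a, ha, aZ⟩ := Set.exists_mem_notMem_of_ncard_lt_ncard (s := (ZZ t : Set G))
    (t := {x | x ∈ C t ∧ x * x = 1}) (by rw [h2, ncard_sub, h.card_Z ht]; norm_num) (Set.toFinite _)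
  obtain ⟨b, hb, bZ⟩ := Set.exists_mem_notMem_of_ncard_lt_ncard (s := ((C t ⊓ C a : Subgroup G) : Set G))
    (t := {x | x ∈ C t ∧ x * x = 1}) (by
      rw [h2, ncard_sub]; have := Nat.le_of_dvd (by norm_num) (h.small ht ha.1 aZ); omega) (Set.toFinite _)
  exact ⟨a, ha.1, b, hb.1, ha.2, hb.2, fun c => bZ ⟨hb.1, mem_C.2 c.symm⟩⟩

theorem exists_coord : ∃ a b z : K4 → G, (∀ s r, a (s + r) = a s * a r) ∧ (∀ s r, b (s + r) = b s * b r) ∧
    (∀ s r, z (s + r) = z s * z r) ∧ (∀ s, a s ∈ C t) ∧ (∀ s, b s ∈ C t) ∧ (∀ s, z s ∈ ZZ t) ∧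
    (∀ s, z s = 1 → s = 0) ∧ ∀ s r, a s * b r * (a s)⁻¹ * (b r)⁻¹ = z (s * r) := by
  obtain ⟨a, aS, b, bS, a2, b2, nc⟩ := h.exists_ab ht g3 hg
  have sq' : ∀ {x : G}, x * x = 1 → g * x * g⁻¹ * (g * x * g⁻¹) = 1 := fun e => by rw [conj_mul, e]; group
  have cZ : ∀ {x y : G}, x ∈ C t → y ∈ C t → x * x = 1 → y * y = 1 → x * y * x⁻¹ * y⁻¹ ∈ ZZ t :=
    fun hx hy x2 y2 => by
      rw [inv_eq_of_mul_eq_one_right x2, inv_eq_of_mul_eq_one_right y2, mul_assoc]
      exact h.sq_mem ht g3 hg (mul_mem hx hy)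
  have a'S := (hg a).1 aS
  have b'S := (hg b).1 bS
  obtain ⟨c, hc⟩ : ∃ c, a * b * a⁻¹ * b⁻¹ = c := ⟨_, rfl⟩
  obtain ⟨d, hd⟩ : ∃ c, a * (g * b * g⁻¹) * a⁻¹ * (g * b * g⁻¹)⁻¹ = c := ⟨_, rfl⟩
  obtain ⟨e, he⟩ : ∃ c, g * a * g⁻¹ * b * (g * a * g⁻¹)⁻¹ * b⁻¹ = c := ⟨_, rfl⟩
  have hf : g * a * g⁻¹ * (g * b * g⁻¹) * (g * a * g⁻¹)⁻¹ * (g * b * g⁻¹)⁻¹ = g * c * g⁻¹ := by rw [← hc]; group
  have cz : c ∈ ZZ t := hc ▸ cZ aS bS a2 b2
  have dz : d ∈ ZZ t := hd ▸ cZ aS b'S a2 (sq' b2)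
  have ez : e ∈ ZZ t := he ▸ cZ a'S bS (sq' a2) b2
  have fz := (sig_Z hg).2 cz
  have c1 : c ≠ 1 := fun e => nc (commute_of_conj_eq (mul_inv_eq_one.1 (hc.trans e)))
  have c2 := h.Z_sq ht cz
  have zc : ∀ {x y : G}, x ∈ ZZ t → y ∈ ZZ t → x * y = y * x := fun hx hy => (ZZ_comm hy (ZZ_le t hx)).eq
  have sa := h.sig2 ht g3 hg aS a2
  have sb := h.sig2 ht g3 hg bS b2
  have sc := h.sig2 ht g3 hg (ZZ_le t cz) c2
  have r1 := cm_right hc hd (ZZ_comm dz bS)
  have r2 := cm_right he hf (ZZ_comm fz bS)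
  have l1 := cm_left hc he (ZZ_comm ez aS)
  have l2 := cm_left hd hf (ZZ_comm fz aS)
  have l3 := cm_left r1 r2 (ZZ_comm (mul_mem ez fz) aS)
  have fp : ∀ x ∈ ZZ t, g * (x * (c * (g * c * g⁻¹))) * g⁻¹ = x * (c * (g * c * g⁻¹)) → x = c * (g * c * g⁻¹) :=
    fun x hx e => by
      have m := mul_mem hx (mul_mem cz fz)
      rw [eq_inv_of_mul_eq_one_left (h.nofix ht (ZZ_le t m) Nat.prime_three (by norm_num) g3 (commute_of_conj_eq e))]
      exact inv_eq_of_mul_eq_one_right (h.Z_sq ht (mul_mem cz fz))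
  have gc : g * (c * (g * c * g⁻¹)) * g⁻¹ = c := by
    rw [← conj_mul, sc, zc cz fz, ← mul_assoc, sq' c2, one_mul]
  have ee : e = c * (g * c * g⁻¹) := fp e ez (by
    have : g * e * g⁻¹ = g * c * g⁻¹ * d := by rw [← l2, ← sa, ← he]; group
    have h2 : g * d * g⁻¹ = e * (g * c * g⁻¹) := by rw [← r2, ← sb, ← hd]; group
    have h3 : e * (g * c * g⁻¹) * (c * d) = c * (g * c * g⁻¹) := by rw [← l3, ← sa, ← sb, ← sc, ← hc]; group
    have h4 : d = e := by
      rw [zc cz fz, mul_assoc, ← mul_assoc _ c, zc ez (mul_mem (mul_mem fz cz) dz), mul_assoc, mul_eq_left] at h3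
      rw [eq_inv_of_mul_eq_one_left h3]; exact inv_eq_of_mul_eq_one_right (h.Z_sq ht ez)
    rw [← conj_mul, gc, ← h4, h2, h4, zc cz fz, mul_assoc])
  have dd : d = c * (g * c * g⁻¹) := by
    have h3 : e * (g * c * g⁻¹) * (c * d) = c * (g * c * g⁻¹) := by rw [← l3, ← sa, ← sb, ← sc, ← hc]; group
    rw [zc cz fz, mul_assoc, ← mul_assoc _ c, zc ez (mul_mem (mul_mem fz cz) dz), mul_assoc, mul_eq_left] at h3
    rw [eq_inv_of_mul_eq_one_left h3, ← ee]; exact inv_eq_of_mul_eq_one_right (h.Z_sq ht ez)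
  subst ee
  obtain ⟨f, hf'⟩ : ∃ f, f = g * c * g⁻¹ := ⟨_, rfl⟩
  have f2 : f * f = 1 := hf' ▸ sq' c2
  have f1 : f ≠ 1 := fun e => c1 (by simpa using conj_eq_one_iff.1 (hf' ▸ e))
  have cf1 : c * f ≠ 1 := fun e => c1 (by
    rw [hf', ← sc] at e; simpa using conj_eq_one_iff.1 (conj_eq_one_iff.1 e))
  subst dd
  rw [← hf'] at hf fz hd he dz r1 r2 l1 l2 l3
  have q1 : ∀ x, c * (c * x) = x := fun x => by rw [← mul_assoc, c2, one_mul]
  have q2 : ∀ x, f * (c * x) = c * (f * x) := fun x => by rw [← mul_assoc, zc fz cz, mul_assoc]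
  refine ⟨par a (g * a * g⁻¹), par b (g * b * g⁻¹), par c (c * f), par_add a2 (sq' a2) (h.comm_sig ht g3 hg aS),
    par_add b2 (sq' b2) (h.comm_sig ht g3 hg bS), par_add c2 (h.Z_sq ht dz) (zc cz dz), par_mem aS a'S,
    par_mem bS b'S, par_mem cz dz, fun s hs => ?_, fun s r => ?_⟩
  · cases s
    · rfl
    · exact absurd hs c1
    · exact absurd hs cf1
    · exact absurd ((q1 f).symm.trans hs) f1
  · cases s <;> cases r <;> change _ = par _ _ _ <;> simp only [par, hc, hd, he, hf, r1, r2, l1, l2, l3] <;>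
      simp only [mul_assoc, q1, q2, zc fz cz, c2, f2, one_mul, mul_one, inv_one, mul_inv_cancel]

end Hyp

theorem Hyp.exists_frame [Finite G] (h : Hyp G) : Nonempty (Fr (Fin 1) K4 G) := by
  obtain ⟨t, ht'⟩ := exists_prime_orderOf_dvd_card' (G := G) 2 (by rw [h.card]; norm_num)
  have ht := inv_of_ord ht'
  obtain ⟨g, g3, hg⟩ := h.exists_three ht
  obtain ⟨a, b, z, aa, ba, za, aS, bS, zZ, z1, cm⟩ := h.exists_coord ht g3 hg
  have N1 : ∀ x : M (Fin 1) K4, x.N = 1 := fun x => by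
    obtain ⟨a, ha, e⟩ := x.hN
    rw [Matrix.det_eq_elem_of_subsingleton _ default, Fintype.card_fin, K4.cube a ha] at e
    exact mat_eq_one e
  have a0 : a 0 = 1 := by simpa using aa 0 0
  have b0 : b 0 = 1 := by simpa using ba 0 0
  have ab : ∀ s r, a s * b r = b r * a s * z (s * r) := fun s r => by
    rw [(ZZ_comm (zZ _) (mul_mem (bS r) (aS s))).eq, ← cm]; group
  let ψ : M (Fin 1) K4 →* G := MonoidHom.mk' (fun x => b (x.v default) * a (x.u default) * z x.c) fun x y => by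
    simp only [M.mul_u, M.mul_v, M.mul_c, N1, Matrix.vecMul_one, Matrix.one_mulVec, Pi.add_apply, aa, ba, za, dot_one]
    calc _ = b (x.v default) * (b (y.v default) * a (x.u default)) *
          (a (y.u default) * (z x.c * z (x.u default * y.v default))) * z y.c := by simp only [mul_assoc]
      _ = b (x.v default) * (b (y.v default) * a (x.u default) * z (x.u default * y.v default)) *
          (a (y.u default) * z x.c) * z y.c := by
        rw [(ZZ_comm (zZ (x.u default * y.v default)) (ZZ_le t (zZ x.c))).eq, ← mul_assoc (a (y.u default)),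
          (ZZ_comm (zZ (x.u default * y.v default)) (aS _)).eq]
        simp only [mul_assoc]
      _ = b (x.v default) * a (x.u default) * (b (y.v default) * a (y.u default) * z x.c) * z y.c := by
        rw [← ab]; simp only [mul_assoc]
      _ = _ := by rw [(ZZ_comm (zZ x.c) (mul_mem (bS _) (aS _))).eq]; simp only [mul_assoc]
  have hψ : ∀ x, ψ x = b (x.v default) * a (x.u default) * z x.c := fun _ => rfl
  have hz : ∀ c, ψ (M.z c) = z c := fun c => by rw [hψ]; simp [a0, b0]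
  have inj : Function.Injective ψ := (injective_iff_map_eq_one ψ).2 fun x hx => by
    have k : ∀ y c, y * x * y⁻¹ * x⁻¹ = M.z c → c = 0 := fun y c e => z1 c (by
      rw [← hz, ← e]; simp [hx])
    rw [M.eq_q (N1 x)] at k hx ⊢
    have e1 := k (M.q (kk _ 1) 0 0) (x.v default) (by
      rw [M.conj_q_q, M.q_inv, M.q_mul, M.z, M.q_inj]
      exact ⟨vadd_self _, vadd_self _, by
        simp only [dot_one, kk_apply, Pi.zero_apply]
        linear_combination CharTwo.add_self_eq_zero (x.c + x.u default * x.v default)⟩)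
    have e2 := k (M.q 0 (kk _ 1) 0) (x.u default) (by
      rw [M.conj_q_q, M.q_inv, M.q_mul, M.z, M.q_inj]
      exact ⟨vadd_self _, vadd_self _, by
        simp only [dot_one, kk_apply, Pi.zero_apply]
        linear_combination CharTwo.add_self_eq_zero (x.c + x.u default * x.v default)⟩)
    rw [hψ, M.q_u, M.q_v, M.q_c, e1, e2, a0, b0, one_mul, one_mul] at hx
    exact M.q_eq_one.2 ⟨by rw [eq_kk x.u, e2]; rfl, by rw [eq_kk x.v, e1]; rfl, z1 _ hx⟩
  have rg : ψ.range = C t := eq_of_le_of_card_ge (by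
    rintro _ ⟨x, rfl⟩; exact mul_mem (mul_mem (bS _) (aS _)) (ZZ_le t (zZ _))) (by
    rw [h.card_C ht, ← Nat.card_congr (MonoidHom.ofInjective inj).toEquiv]
    have := Nat.card_le_card_of_injective (fun p : K4 × K4 × K4 => M.q (kk (Fin 1) p.1) (kk _ p.2.1) p.2.2)
      fun p p' e => by
        rw [M.q_inj, kk_inj, kk_inj] at e
        exact Prod.ext e.1 (Prod.ext e.2.1 e.2.2)
    simpa [K4.card] using this)
  refine ⟨ψ, inj, fun c hc x hx => ?_⟩
  rw [rg, ← (h.Z_inv ht (zZ c) fun e => hc (z1 c e)).2, mem_C, ← hz]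
  exact hx

section good

variable {ι F : Type*} [Fintype ι] [DecidableEq ι] [Field F] [Subsingleton ι] [Inhabited ι] [CharP F 2] [Fintype F]

omit [Fintype F] in
theorem move (φ : Fr ι F G) {x e : G} (hx : x ∈ φ.A) (hx' : x ∉ φ.Z) (he : e ∈ φ.Z) :
    ∃ y ∈ φ.H, y * x * y⁻¹ = e * x := by
  obtain ⟨s, c, rfl⟩ := (mem_A_iff φ).1 hx
  obtain ⟨c0, rfl⟩ := (LT2B.mem_Z_iff φ).1 he
  have hs : s ≠ 0 := fun h => hx' ((qq_mem_Z φ).2 ⟨h, rfl⟩)
  refine ⟨qq φ 0 (c0 / s) 0, φ.ψ_mem_H _, ?_⟩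
  rw [qq_conj, zz_eq, qq_mul, qq_inj]
  refine ⟨by simp, by simp, ?_⟩
  field_simp; ring

theorem eqA_all [Finite G] (hq : 2 < Fintype.card F) (φ : Fr ι F G) (g x : G) (hx : x ∈ (φ.conj g).Z) (h1 : x ≠ 1)
    (hA : x ∈ φ.A) : (φ.conj g).A = φ.A := by
  have key : ∀ y ∈ φ.A, y ∈ (φ.conj g).A ∨ y ∈ (φ.conj g).B := fun y hy =>
    inv_of_H _ (Fr.mem_H_of_commute _ hx h1 (φ.commute_of_A hy hA)) (φ.mul_self_of_A hy)
  have : φ.A ≤ (φ.conj g).A ∨ φ.A ≤ (φ.conj g).B := by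
    by_contra hc
    push Not at hc
    obtain ⟨x, hx, hx'⟩ := SetLike.not_le_iff_exists.1 hc.1
    obtain ⟨y, hy, hy'⟩ := SetLike.not_le_iff_exists.1 hc.2
    rcases key _ (mul_mem hx hy) with h1 | h1
    · exact hx' ((Subgroup.mul_mem_cancel_right _ ((key y hy).resolve_right hy')).1 h1)
    · exact hy' ((Subgroup.mul_mem_cancel_left _ ((key x hx).resolve_left hx')).1 h1)
  rcases this with h | h
  · exact (eq_of_le_of_card_ge h (φ.card_A_eq _).le).symm
  have e : φ.A = (φ.conj g).B := eq_of_le_of_card_ge h (φ.card_B_eq _).le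
  by_cases hZ : (φ.conj g).Z = φ.Z
  · exact φ.conj_A_eq (Or.inl hq) hZ
  exfalso
  have xZ : x ∉ φ.Z := fun h => h1 (eq_one_of_Z hZ hx h)
  obtain ⟨y, hy, e1⟩ := move φ hA xZ (zz_mem φ 1)
  obtain ⟨y', hy', e2⟩ := move (φ.conj g).dual (x := zz φ 1 * x) (e := x)
    (by rw [Fr.dual_A, ← e]; exact mul_mem (φ.Z_le_A (zz_mem φ 1)) hA)
    (by rw [Fr.dual_Z, Subgroup.mul_mem_cancel_right _ hx]; exact fun h => zz_one_ne φ (eq_one_of_Z hZ h (zz_mem φ 1)))
    (by rwa [Fr.dual_Z])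
  rw [Fr.dual_H] at hy'
  have e3 : y' * y * x * (y' * y)⁻¹ ∈ φ.Z := by
    have : y' * y * x * (y' * y)⁻¹ = zz φ 1 := by
      calc _ = y' * (y * x * y⁻¹) * y'⁻¹ := by group
        _ = _ := by
          rw [e1, e2, (φ.commute_of_A (φ.Z_le_A (zz_mem φ 1)) hA).eq, ← mul_assoc, φ.mul_self_of_A hA, one_mul]
    exact this ▸ zz_mem φ 1
  have e4 := ((((Cj.refl φ).conj g).conj (y' * y)).AB hq (conj_Z_of_mem hx h1 e3)).2
  have e5 : ((φ.conj g).conj y).B = (φ.conj g).B :=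
    ((Fr.conj_congr e.symm y).trans (φ.conj_A_of_H hy)).trans e
  rw [← Fr.conj_conj, Fr.conj_B_congr e5, Fr.conj_B_of_H _ hy', ← e] at e4
  exact φ.A_ne_B e4

theorem good_of_conj [Finite G] (hq : 2 < Fintype.card F) (hc : ∀ t u : G, IsInv t → IsInv u → ∃ g, g * t * g⁻¹ = u)
    (φ : Fr ι F G) : φ.Good := by
  have mD : ∀ x : G, x ≠ 1 → x * x = 1 → x ∈ φ.D := fun x h1 h2 => by
    obtain ⟨g, rfl⟩ := hc _ x ⟨zz_one_ne φ, zz_sq φ 1⟩ ⟨h1, h2⟩
    exact φ.conj_mem_D (φ.z_mem_D one_ne_zero) g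
  refine ⟨fun x hx h1 => mD x h1 (φ.mul_self_of_A hx), fun x hx h1 => mD x h1 (φ.mul_self_of_B hx),
    fun x hx hD => inv_of_H φ (φ.Q_le_H hx) (φ.mul_self_of_D hD), eqA_all hq φ, fun g x hx h1 hB => ?_⟩
  have := eqA_all hq φ.dual g x (by rwa [← Fr.dual_conj, Fr.dual_Z]) h1 (by rwa [Fr.dual_A])
  rwa [← Fr.dual_conj, Fr.dual_A, Fr.dual_A] at this

end good

theorem recL34 {G : Type*} [Group G] [Finite G] (hg : Nat.card G = 20160) (hk : Nat.card (ConjClasses G) = 10)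
    (hc : ∀ x : G, x ≠ 1 → (orderOf x, Nat.card (Subgroup.centralizer ({x} : Set G))) ∈
      ({(2, 64), (3, 9), (4, 16), (5, 5), (7, 7)} : Finset (ℕ × ℕ))) :
    ∃ (F : Type) (_ : Field F) (_ : Fintype F), Fintype.card F = 4 ∧
      Nonempty (G ≃* Matrix.ProjectiveSpecialLinearGroup (Fin 3) F) := by
  have h : Hyp G := ⟨hg, hk, hc⟩
  have hq : 2 < Fintype.card K4 := by decide
  have hI : ∀ φ : Fr (Fin 1) K4 G, φ.Good := good_of_conj hq fun _ _ => h.conj_inv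
  obtain ⟨φ⟩ := h.exists_frame
  obtain ⟨κ, _, _, i, j, x, h1, h2, h3, h4, h5⟩ := exists_stR_three (Fintype.card_fin 1) hq φ (hI φ)
  obtain ⟨k, rfl, rfl⟩ := LT0.exists_equiv_K h1 h2
  obtain ⟨e'⟩ := LT0.iso_of_stR (Or.inl hq) hI φ (x := fun a b => x (k a) (k b))
    ⟨fun h => h3.add (k.injective.ne h),
      fun a b c d => h3.comm (k.injective.ne a) (k.injective.ne b) (k.injective.ne c) (k.injective.ne d),
      fun a b c => h3.step (k.injective.ne a) (k.injective.ne b) (k.injective.ne c)⟩ h4 h5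
  obtain ⟨e, -, -⟩ := LT0.exists_equiv_K (ι := Fin 1) (κ := Fin 3) (i := 0) (j := 1) (by simp) (by decide)
  exact ⟨K4, inferInstance, inferInstance, rfl, ⟨e'.trans (Forms.centerQuotEquiv (LT0.reSL e)).symm⟩⟩

end Cfsg.Agent.RecL
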