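import Cfsg.Agent.Lib.Bd.Basic

/-! Local analysis of a group of order 20160 with the centraliser orders of `L₃(4)`. -/

set_option autoImplicit false

namespace Cfsg.Agent.RecL

open Subgroup Cfsg.Agent.Bd Cfsg.Agent.AIC

theorem dvd_of_blocks {α : Type*} {X : Set α} (hX : X.Finite) (B : α → Set α) {k : ℕ}
    (h1 : ∀ w ∈ X, w ∈ B w) (h2 : ∀ w ∈ X, B w ⊆ X) (h3 : ∀ w ∈ X, k ∣ (B w).ncard)
    (h4 : ∀ w ∈ X, ∀ w' ∈ B w, B w' = B w) : k ∣ X.ncard := by
  classical
  rw [Set.ncard_eq_toFinset_card X hX, Finset.card_eq_sum_card_image B hX.toFinset]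
  refine Finset.dvd_sum fun b hb => ?_
  obtain ⟨w, hw, rfl⟩ := Finset.mem_image.1 hb
  have hw' : w ∈ X := by simpa using hw
  refine (h3 w hw').trans (dvd_of_eq (Eq.symm ?_))
  rw [← Set.ncard_coe_finset]
  congr 1
  ext y
  simp only [Finset.coe_filter, Set.Finite.mem_toFinset, Set.mem_ofPred_eq]
  exact ⟨fun h => h.2 ▸ h1 y h.1, fun h => ⟨h2 w hw' h, h4 w hw' y h⟩⟩

variable {G : Type*} [Group G]

/-- centraliser of an element -/
abbrev C (x : G) : Subgroup G := centralizer ({x} : Set G)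

theorem mem_C {x g : G} : g ∈ C x ↔ Commute g x := mem_T

/-- conjugates of `x` under `K` -/
def cl (K : Subgroup G) (x : G) : Set G := (fun g : G => g * x * g⁻¹) '' K

theorem cl_self (K : Subgroup G) (x : G) : x ∈ cl K x := ⟨1, K.one_mem, by simp⟩

theorem cl_eq {K : Subgroup G} {x y : G} (h : y ∈ cl K x) : cl K y = cl K x := by
  obtain ⟨g, hg, rfl⟩ := h
  ext y
  constructor
  · rintro ⟨a, ha, rfl⟩; exact ⟨a * g, K.mul_mem ha hg, by simp [mul_assoc]⟩
  · rintro ⟨a, ha, rfl⟩; exact ⟨a * g⁻¹, K.mul_mem ha (K.inv_mem hg), by simp [mul_assoc]⟩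

theorem ord_conj (g x : G) : orderOf (g * x * g⁻¹) = orderOf x := (MulAut.conj g).orderOf_eq x

theorem ord_two {x : G} (h : IsInv x) : orderOf x = 2 := orderOf_eq_prime (by rw [pow_two, h.2]) h.1

theorem inv_of_ord {x : G} (h : orderOf x = 2) : IsInv x :=
  ⟨fun e => by simp [e] at h, by rw [← pow_two, ← h, pow_orderOf_eq_one]⟩

structure Hyp (G : Type*) [Group G] : Prop where
  card : Nat.card G = 20160
  cls : Nat.card (ConjClasses G) = 10
  cent : ∀ x : G, x ≠ 1 → (orderOf x, Nat.card (centralizer ({x} : Set G))) ∈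
    ({(2, 64), (3, 9), (4, 16), (5, 5), (7, 7)} : Finset (ℕ × ℕ))

namespace Hyp

variable [Finite G] (h : Hyp G)
include h

omit [Finite G] in
theorem cases {x : G} (hx : x ≠ 1) : (orderOf x = 2 ∧ Nat.card (C x) = 64) ∨ (orderOf x = 3 ∧ Nat.card (C x) = 9) ∨
    (orderOf x = 4 ∧ Nat.card (C x) = 16) ∨ (orderOf x = 5 ∧ Nat.card (C x) = 5) ∨
    (orderOf x = 7 ∧ Nat.card (C x) = 7) := by
  simpa using h.cent x hx

theorem card_cl (x : G) : (cl ⊤ x).ncard * Nat.card (C x) = 20160 := by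
  have := card_eq_cls_mul ⊤ x
  rwa [top_inf_eq, card_top, h.card, eq_comm] at this

theorem dvd_ord {o c n : ℕ} (hc : ∀ x : G, orderOf x = o → Nat.card (C x) = c) (hn : n * c = 20160) :
    n ∣ {x : G | orderOf x = o}.ncard := by
  refine dvd_ncard_of_blocks (Set.toFinite _) (cl ⊤) (fun w _ => cl_self _ w) ?_ (fun w hw => ?_)
    fun w _ w' hw' => cl_eq hw'
  · rintro w hw _ ⟨g, -, rfl⟩; exact (ord_conj g w).trans hw
  · have := h.card_cl w
    rw [hc w hw, ← hn] at this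
    exact Nat.eq_of_mul_eq_mul_right (Nat.pos_of_ne_zero (by rintro rfl; simp at hn)) this

omit [Finite G] in
theorem cent_of_ord {x : G} {o : ℕ} (hx : orderOf x = o) (h1 : o ≠ 1) :
    Nat.card (C x) = if o = 2 then 64 else if o = 3 then 9 else if o = 4 then 16 else o := by
  rcases h.cases (x := x) (by rintro rfl; simp at hx; omega) with e | e | e | e | e <;>
    rw [e.2, ← hx, e.1] <;> rfl

theorem counts : {x : G | orderOf x = 2}.ncard = 315 ∧ {x : G | orderOf x = 4}.ncard = 3780 := by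
  classical
  have := Fintype.ofFinite G
  obtain ⟨a, ha⟩ := h.dvd_ord (o := 2) (n := 315) (fun x hx => h.cent_of_ord hx (by norm_num)) (by norm_num)
  obtain ⟨b, hb⟩ := h.dvd_ord (o := 3) (n := 2240) (fun x hx => h.cent_of_ord hx (by norm_num)) (by norm_num)
  obtain ⟨c, hc⟩ := h.dvd_ord (o := 4) (n := 1260) (fun x hx => h.cent_of_ord hx (by norm_num)) (by norm_num)
  obtain ⟨d, hd⟩ := h.dvd_ord (o := 5) (n := 4032) (fun x hx => h.cent_of_ord hx (by norm_num)) (by norm_num)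
  obtain ⟨e, he⟩ := h.dvd_ord (o := 7) (n := 2880) (fun x hx => h.cent_of_ord hx (by norm_num)) (by norm_num)
  have key : ∀ f : ℕ → ℕ, ∑ x : G, f (orderOf x) = f 1 + 315 * a * f 2 + 2240 * b * f 3 + 1260 * c * f 4 +
      4032 * d * f 5 + 2880 * e * f 7 := by
    intro f
    have e1 : ∀ x : G, f (orderOf x) = (if x = 1 then f 1 else 0) + (if orderOf x = 2 then f 2 else 0) +
        (if orderOf x = 3 then f 3 else 0) + (if orderOf x = 4 then f 4 else 0) +
        (if orderOf x = 5 then f 5 else 0) + (if orderOf x = 7 then f 7 else 0) := fun x => by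
      by_cases h1 : x = 1
      · simp [h1]
      · rcases h.cases h1 with e | e | e | e | e <;> simp [h1, e.1]
    have e2 : ∀ o v : ℕ, ∑ x : G, (if orderOf x = o then v else 0) = {x : G | orderOf x = o}.ncard * v := by
      intro o v
      rw [← Finset.sum_filter, Finset.sum_const, smul_eq_mul, ← Set.ncard_coe_finset]
      simp
    simp only [e1, Finset.sum_add_distrib, e2, ha, hb, hc, hd, he]
    simp
  have k1 := key fun _ => 1
  have k2 := key fun o => if o = 1 then 20160 else if o = 2 then 64 else if o = 3 then 9 else if o = 4 then 16 else o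
  have k3 : ∑ x : G, Nat.card (C x) = 10 * 20160 := by
    rw [← h.cls, ← h.card, ← card_comm_eq_card_conjClasses_mul_card, ← Nat.card_sigma]
    exact Nat.card_congr ⟨fun p => ⟨(p.2.1, p.1), mem_C.1 p.2.2⟩, fun p => ⟨p.1.2, p.1.1, mem_C.2 p.2⟩,
      fun _ => rfl, fun _ => rfl⟩
  have k4 : ∀ x : G, Nat.card (C x) = (fun o => if o = 1 then 20160 else if o = 2 then 64 else if o = 3 then 9 else
      if o = 4 then 16 else o) (orderOf x) := fun x => by
    by_cases h1 : orderOf x = 1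
    · rw [orderOf_eq_one_iff.1 h1, ← h.card]; simp [C, centralizer_eq_top_iff_subset.2]
    · simp only [h1, if_false]; exact h.cent_of_ord rfl h1
  simp only [k4] at k3
  rw [k3] at k2
  simp only [Finset.sum_const, Finset.card_univ, smul_eq_mul, mul_one, ← Nat.card_eq_fintype_card, h.card] at k1
  norm_num at k2
  omega

theorem conj_inv {t u : G} (ht : IsInv t) (hu : IsInv u) : ∃ g, g * t * g⁻¹ = u := by
  have h1 := h.card_cl t
  rw [h.cent_of_ord (ord_two ht) (by norm_num)] at h1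
  have : cl ⊤ t = {x : G | orderOf x = 2} := Set.eq_of_subset_of_ncard_le (by
    rintro _ ⟨g, -, rfl⟩; exact (ord_conj g t).trans (ord_two ht)) (by
    rw [h.counts.1]; simp at h1; omega) (Set.toFinite _)
  obtain ⟨g, -, hg⟩ : u ∈ cl ⊤ t := this ▸ ord_two hu
  exact ⟨g, hg⟩

theorem roots {t : G} (ht : IsInv t) : {x : G | x * x = t}.ncard = 12 := by
  have o4 : ∀ {x z : G}, IsInv z → x * x = z → orderOf x = 4 := fun {x z} hz e =>
    orderOf_eq_prime_pow (p := 2) (n := 1) (by rw [pow_one, pow_two, e]; exact hz.1)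
      (by rw [show 2 ^ (1 + 1) = 2 * 2 from rfl, pow_mul, pow_two x, e, pow_two, hz.2])
  have := ncard_eq_fibers (X := {x : G | orderOf x = 4}) (Set.toFinite _) (Y := {x : G | orderOf x = 2})
    (fun x => x * x) (k := {x : G | x * x = t}.ncard) (fun x hx => by
      have : orderOf (x ^ 2) = 2 := by rw [orderOf_pow' _ two_ne_zero, hx]; rfl
      rwa [pow_two] at this) (fun z hz => by
      obtain ⟨g, rfl⟩ := h.conj_inv ht (inv_of_ord hz)
      rw [← Set.ncard_image_of_injective {x : G | x * x = t} (MulAut.conj g).injective]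
      congr 1
      ext x
      simp only [Set.mem_ofPred_eq, Set.mem_image, MulAut.conj_apply]
      constructor
      · rintro ⟨-, e⟩
        refine ⟨g⁻¹ * x * g, ?_, by group⟩
        calc _ = g⁻¹ * (x * x) * g := by group
          _ = t := by rw [e]; group
      · rintro ⟨y, e, rfl⟩
        exact ⟨(ord_conj g y).trans (o4 ht e), by rw [← e]; group⟩) (Set.toFinite _)
  rw [h.counts.1, h.counts.2] at this
  omega

omit [Finite G] in
theorem card_C {t : G} (ht : IsInv t) : Nat.card (C t) = 64 := h.cent_of_ord (ord_two ht) (by norm_num)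

omit [Finite G] in
theorem ord_C {t x : G} (ht : IsInv t) (hx : x ∈ C t) (h1 : x ≠ 1) :
    (orderOf x = 2 ∧ Nat.card (C x) = 64) ∨ (orderOf x = 4 ∧ Nat.card (C x) = 16) := by
  have := orderOf_dvd_natCard (⟨x, hx⟩ : C t)
  rw [h.card_C ht, orderOf_mk] at this
  rcases h.cases h1 with e | e | e | e | e
  · exact Or.inl e
  · rw [e.1] at this; omega
  · exact Or.inr e
  · rw [e.1] at this; omega
  · rw [e.1] at this; omega

omit [Finite G] in
theorem four {t x : G} (ht : IsInv t) (hx : x ∈ C t) : x * x * (x * x) = 1 := by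
  have : x ^ 4 = 1 := by
    by_cases h1 : x = 1
    · simp [h1]
    · rcases h.ord_C ht hx h1 with e | e <;> rw [← orderOf_dvd_iff_pow_eq_one, e.1]
      norm_num
  rw [← this]; simp only [pow_succ, pow_zero, one_mul, mul_assoc]

omit [Finite G] in
theorem nofix {t x g : G} {p : ℕ} (ht : IsInv t) (hx : x ∈ C t) (hp : p.Prime) (h2 : p ≠ 2)
    (hg : orderOf g = p) (c : Commute g x) : x = 1 := by
  by_contra h1
  have := orderOf_dvd_natCard (⟨g, mem_C.2 c⟩ : C x)
  rw [orderOf_mk, hg] at this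
  have h3 : p ∣ 2 ^ 6 := by
    rcases h.ord_C ht hx h1 with e | e <;> rw [e.2] at this
    · exact this
    · exact this.trans (by norm_num)
  exact h2 ((Nat.prime_dvd_prime_iff_eq hp Nat.prime_two).1 (hp.dvd_of_dvd_pow h3))

theorem odd_elt {t : G} (ht : IsInv t) {K : Subgroup G} (hK : C t ≤ K) (hne : ¬ K ≤ C t) :
    ∃ g ∈ K, ∃ p : ℕ, p.Prime ∧ p ∣ 315 ∧ orderOf g = p := by
  obtain ⟨m, hm⟩ := card_dvd_of_le hK
  have h1 := card_subgroup_dvd_card K
  rw [h.card_C ht] at hm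
  rw [hm, h.card, show 20160 = 64 * 315 from rfl, Nat.mul_dvd_mul_iff_left (by norm_num)] at h1
  have m1 : m ≠ 1 := by
    rintro rfl
    exact hne (eq_of_le_of_card_ge hK (by rw [hm, h.card_C ht])).ge
  have := Fact.mk (Nat.minFac_prime m1)
  obtain ⟨g, hg⟩ := exists_prime_orderOf_dvd_card' (G := K) m.minFac (hm ▸ (Nat.minFac_dvd m).mul_left 64)
  exact ⟨g, g.2, _, Nat.minFac_prime m1, (Nat.minFac_dvd m).trans h1, by rw [← hg, orderOf_coe]⟩

theorem ne32 {t y : G} (ht : IsInv t) (hy : IsInv y) (hne : ¬ C y ≤ C t) : Nat.card ↥(C t ⊓ C y) ≠ 32 := by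
  intro h32
  have nm : ∀ {u : G}, IsInv u → C t ⊓ C y ≤ C u → C u ≤ normalizer (C t ⊓ C y : Subgroup G) := by
    intro u hu hle
    rw [← normal_subgroupOf_iff_le_normalizer hle]
    apply normal_of_index_eq_two
    have := ((C t ⊓ C y).subgroupOf (C u)).card_mul_index
    rw [Nat.card_congr (subgroupOfEquivOfLe hle).toEquiv, h32, h.card_C hu] at this
    omega
  obtain ⟨g, hg, p, hp, hp3, ho⟩ := h.odd_elt ht (nm ht inf_le_left) fun e => hne ((nm hy inf_le_right).trans e)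
  have := Fact.mk hp
  obtain ⟨x, hx, c⟩ := exists_fixed_cj_elt (p := p) (g := g) (k := 1) (by rw [pow_one, ← ho, pow_orderOf_eq_one])
    (X := ((C t ⊓ C y : Subgroup G) : Set G) \ {1}) (Set.toFinite _)
    (fun x hx => ⟨(mem_normalizer_iff.1 hg x).1 hx.1, fun e => hx.2 (by simpa using conj_eq_one_iff.1 e)⟩) (by
      rw [Set.ncard_sdiff_singleton_of_mem (one_mem _), ncard_sub, h32]
      intro h31
      exact hp.one_lt.ne' (Nat.eq_one_of_dvd_coprimes (by norm_num) h31 hp3))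
  exact hx.2 (h.nofix ht hx.1.1 hp (by rintro rfl; omega) ho c)

end Hyp

/-- the centre of the Sylow subgroup -/
abbrev ZZ (t : G) : Subgroup G := centralizer (C t : Set G)

theorem mem_ZZ {t z : G} : z ∈ ZZ t ↔ C t ≤ C z :=
  ⟨fun h _ hs => mem_C.2 (h _ hs), fun h _ hs => (mem_C.1 (h hs)).eq⟩

theorem self_ZZ (t : G) : t ∈ ZZ t := mem_ZZ.2 le_rfl

theorem ZZ_le (t : G) : ZZ t ≤ C t := fun _ hz => mem_C.2 (mem_C.1 (mem_ZZ.1 hz (mem_C.2 (Commute.refl t)))).symm

theorem ZZ_comm {t z s : G} (hz : z ∈ ZZ t) (hs : s ∈ C t) : Commute s z := mem_C.1 (mem_ZZ.1 hz hs)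

namespace Hyp

variable [Finite G] (h : Hyp G) {t : G} (ht : IsInv t)
include h ht

theorem Z_inv {z : G} (hz : z ∈ ZZ t) (h1 : z ≠ 1) : IsInv z ∧ C z = C t := by
  have h2 := card_le_of_le (mem_ZZ.1 hz)
  rw [h.card_C ht] at h2
  rcases h.ord_C ht (ZZ_le t hz) h1 with e | e
  · exact ⟨inv_of_ord e.1, (eq_of_le_of_card_ge (mem_ZZ.1 hz) (by rw [e.2, h.card_C ht])).symm⟩
  · omega

theorem Z_sq {z : G} (hz : z ∈ ZZ t) : z * z = 1 := by
  by_cases h1 : z = 1
  · simp [h1]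
  · exact (h.Z_inv ht hz h1).1.2

theorem small {y : G} (hy : y ∈ C t) (hZ : y ∉ ZZ t) : Nat.card ↥(C t ⊓ C y) ∣ 16 := by
  have y1 : y ≠ 1 := fun e => hZ (e ▸ one_mem _)
  rcases h.ord_C ht hy y1 with e | e
  · have h1 := card_dvd_of_le (inf_le_left : C t ⊓ C y ≤ C t)
    have h2 : ¬ C y ≤ C t := fun l => hZ (mem_ZZ.2 (eq_of_le_of_card_ge l (by rw [e.2, h.card_C ht])).ge)
    have h3 := h.ne32 ht (inv_of_ord e.1) h2
    have h4 : Nat.card ↥(C t ⊓ C y) ≠ 64 := fun e' => hZ (mem_ZZ.2 (inf_eq_left.1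
      (eq_of_le_of_card_ge inf_le_left (by rw [e', h.card_C ht]))))
    rw [h.card_C ht, show 64 = 2 ^ 6 from rfl, Nat.dvd_prime_pow Nat.prime_two] at h1
    obtain ⟨i, hi, e'⟩ := h1
    rw [e'] at h3 h4 ⊢
    interval_cases i <;> simp_all
  · exact e.2 ▸ card_dvd_of_le inf_le_right

theorem card_sq : {x | x ∈ C t ∧ x * x ∈ ZZ t ∧ x * x ≠ 1}.ncard = (Nat.card (ZZ t) - 1) * 12 := by
  rw [← ncard_sub, ← Set.ncard_sdiff_singleton_of_mem (ZZ t).one_mem]
  refine ncard_eq_fibers (Set.toFinite _) (fun x => x * x) (fun x hx => hx.2) (fun z hz => ?_) (Set.toFinite _)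
  obtain ⟨h1, h2⟩ := h.Z_inv ht hz.1 hz.2
  rw [← h.roots h1]
  congr 1
  ext x
  simp only [Set.mem_ofPred_eq]
  refine ⟨fun e => e.2, fun e => ⟨⟨?_, e ▸ hz.1, e ▸ hz.2⟩, e⟩⟩
  rw [← h2, mem_C, ← e]; exact (Commute.refl x).mul_right (Commute.refl x)

theorem card_Z : Nat.card (ZZ t) = 4 := by
  have h1 := card_dvd_of_le (ZZ_le t)
  have h2 := Set.ncard_le_ncard (show {x | x ∈ C t ∧ x * x ∈ ZZ t ∧ x * x ≠ 1} ⊆ C t from fun _ hx => hx.1)
    (Set.toFinite _)
  have h3 : 4 ∣ ((C t : Set G) \ ZZ t).ncard := by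
    refine dvd_of_blocks (Set.toFinite _) (cl (C t)) (fun w _ => cl_self _ w) ?_ (fun w hw => ?_)
      fun w _ w' hw' => cl_eq hw'
    · rintro w hw _ ⟨g, hg, rfl⟩
      refine ⟨mul_mem (mul_mem hg hw.1) (inv_mem hg), fun e => hw.2 ?_⟩
      have := conj_eq_of_commute (ZZ_comm e (inv_mem hg))
      rw [show g⁻¹ * (g * w * g⁻¹) * g⁻¹⁻¹ = w by group] at this
      exact this ▸ e
    · have := card_eq_cls_mul (C t) w
      obtain ⟨c, hc⟩ := h.small ht hw.1 hw.2
      rw [h.card_C ht] at this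
      refine ⟨c, Nat.eq_of_mul_eq_mul_right (Nat.card_pos (α := ↥(C t ⊓ C w))) ?_⟩
      rw [cl, ← this, mul_assoc, mul_comm c, ← hc]
      try rfl
  rw [Set.ncard_sdiff (ZZ_le t) (Set.toFinite _), ncard_sub, ncard_sub, h.card_C ht] at h3
  rw [h.card_sq ht, ncard_sub, h.card_C ht] at h2
  have h4 : Nat.card (ZZ t) ≠ 0 := Nat.card_pos.ne'
  omega

theorem exists_three : ∃ g : G, orderOf g = 3 ∧ ∀ x, x ∈ C t ↔ g * x * g⁻¹ ∈ C t := by
  obtain ⟨z, hz, h1, h2⟩ : ∃ z ∈ ZZ t, z ≠ 1 ∧ z ≠ t := by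
    by_contra hc
    push Not at hc
    have := Set.ncard_le_ncard (show (ZZ t : Set G) ⊆ {1, t} from fun z hz => by
      by_cases h1 : z = 1
      · simp [h1]
      · simp [hc z hz h1]) (Set.toFinite _)
    have h3 := Set.ncard_insert_le 1 ({t} : Set G)
    rw [ncard_sub, h.card_Z ht] at this
    rw [Set.ncard_singleton] at h3
    omega
  obtain ⟨h3, h4⟩ := h.Z_inv ht hz h1
  obtain ⟨k, hk⟩ := h.conj_inv ht h3
  have hN : k ∈ normalizer (C t : Set G) := mem_normalizer_iff.2 fun x => by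
    conv_rhs => rw [← h4, ← hk, mem_C, commute_conj_iff]
    exact mem_C
  obtain ⟨g, hg, p, hp, hp3, ho⟩ := h.odd_elt ht le_normalizer fun e =>
    h2 (by rw [← hk, conj_eq_of_commute (mem_C.1 (e hN))])
  have := Fact.mk hp
  refine ⟨g, ?_, mem_normalizer_iff.1 hg⟩
  by_contra h3
  obtain ⟨x, hx, c⟩ := exists_fixed_cj_elt (p := p) (g := g) (k := 1) (by rw [pow_one, ← ho, pow_orderOf_eq_one])
    (X := (ZZ t : Set G) \ {1}) (Set.toFinite _)
    (fun x hx => ⟨fun s hs => by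
      have := (commute_conj_iff g _ _).2 (ZZ_comm hx.1 ((mem_normalizer_iff.1 (inv_mem hg) s).1 hs))
      rw [show g * (g⁻¹ * s * g⁻¹⁻¹) * g⁻¹ = s by group] at this
      exact this.eq, fun e => hx.2 (by simpa using conj_eq_one_iff.1 e)⟩) (by
      rw [Set.ncard_sdiff_singleton_of_mem (one_mem _), ncard_sub, h.card_Z ht]
      intro h31
      exact h3 (ho.trans ((Nat.prime_dvd_prime_iff_eq hp Nat.prime_three).1 h31)))
  exact hx.2 (h.nofix ht (ZZ_le t hx.1) hp (by rintro rfl; omega) ho c)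

end Hyp

end Cfsg.Agent.RecL
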